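import Cfsg.Agent.ChevGrp.Weyl.Tools
import Cfsg.Prelude.Def_ChevB2

/-! Certified length polynomial of the Weyl group of type B2 (owner: helper32). -/

set_option linter.unusedSimpArgs false
set_option maxHeartbeats 4000000

namespace Cfsg.Agent.ChevGrp.WeylB2

open Cfsg.Lie

/-- The Cartan matrix. -/
def mat : List (List ℤ) := [[2, -2], [-1, 2]]

theorem mat_eq : mat = cartanList chevB2 := by decide +kernel

/-- Coset certificate, step 0. -/
def step0 : List CosetEntry := [
  ([6, 6], 0, 0, 0),
  ([-6, 18], 0, 0, 1)]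

theorem step0_ok : cosetOK mat 2 [] [0] step0 = true := by decide +kernel

theorem step0_depth : step0.map (fun e => e.2.2.2) = depthList [1, 1] := by decide +kernel

/-- Coset certificate, step 1. -/
def step1 : List CosetEntry := [
  ([0, 6], 0, 0, 0),
  ([6, -6], 0, 1, 1),
  ([-6, 6], 1, 0, 2),
  ([0, -6], 2, 1, 3)]

theorem step1_ok : cosetOK mat 2 [0] [0, 1] step1 = true := by decide +kernel

theorem step1_depth : step1.map (fun e => e.2.2.2) = depthList [1, 1, 1, 1] := by decide +kernel

theorem lenPoly_mul {F : Type*} [Field F] (hS : Rules chevB2 F) {len : ℕ → ℕ}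
    (hR : RootTable chevB2 len) (q : ℤ) :
    lenPoly hR (List.range chevB2.rank) q * (q - 1) ^ 2 = (q ^ 2 - 1) * (q ^ 4 - 1) := by
  have h0 : lenPoly hR [] q * (q - 1) ^ 0 = 1 := by rw [hR.lenPoly_nil, pow_zero, mul_one]
  have h1 : lenPoly hR [0] q * (q - 1) ^ 1 = (q ^ 2 - 1) :=
    lenPoly_step_prod hS hR mat_eq [] [0] step0 [1, 1] step0_ok step0_depth h0
      (by simp only [coeffEval, List.zipIdx_cons, List.zipIdx_nil, List.map_cons, List.map_nil, List.sum_cons,
        List.sum_nil]; push_cast; ring)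
  have h2 : lenPoly hR [0, 1] q * (q - 1) ^ 2 = (q ^ 2 - 1) * (q ^ 4 - 1) :=
    lenPoly_step_prod hS hR mat_eq [0] [0, 1] step1 [1, 1, 1, 1] step1_ok step1_depth h1
      (by simp only [coeffEval, List.zipIdx_cons, List.zipIdx_nil, List.map_cons, List.map_nil, List.sum_cons,
        List.sum_nil]; push_cast; ring)
  exact h2

end Cfsg.Agent.ChevGrp.WeylB2
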