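import Cfsg.Agent.ChevGrp.Weyl.Tools
import Cfsg.Prelude.Def_ChevD4

/-! Certified length polynomial of the Weyl group of type D4 (owner: helper32). -/

set_option linter.unusedSimpArgs false
set_option maxHeartbeats 4000000

namespace Cfsg.Agent.ChevGrp.WeylD4

open Cfsg.Lie

/-- The Cartan matrix. -/
def mat : List (List ℤ) := [[2, -1, 0, 0], [-1, 2, -1, -1], [0, -1, 2, 0], [0, -1, 0, 2]]

theorem mat_eq : mat = cartanList chevD4 := by decide +kernel

/-- Coset certificate, step 0. -/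
def step0 : List CosetEntry := [
  ([6, 6, 6, 6], 0, 0, 0),
  ([-6, 12, 6, 6], 0, 0, 1)]

theorem step0_ok : cosetOK mat 4 [] [0] step0 = true := by decide +kernel

theorem step0_depth : step0.map (fun e => e.2.2.2) = depthList [1, 1] := by decide +kernel

/-- Coset certificate, step 1. -/
def step1 : List CosetEntry := [
  ([0, 6, 6, 6], 0, 0, 0),
  ([6, -6, 12, 12], 0, 1, 1),
  ([-6, 0, 12, 12], 1, 0, 2)]

theorem step1_ok : cosetOK mat 4 [0] [1, 0] step1 = true := by decide +kernel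

theorem step1_depth : step1.map (fun e => e.2.2.2) = depthList [1, 1, 1] := by decide +kernel

/-- Coset certificate, step 2. -/
def step2 : List CosetEntry := [
  ([0, 0, 6, 6], 0, 0, 0),
  ([0, 6, -6, 6], 0, 2, 1),
  ([6, -6, 0, 12], 1, 1, 2),
  ([-6, 0, 0, 12], 2, 0, 3)]

theorem step2_ok : cosetOK mat 4 [1, 0] [2, 1, 0] step2 = true := by decide +kernel

theorem step2_depth : step2.map (fun e => e.2.2.2) = depthList [1, 1, 1, 1] := by decide +kernel

/-- Coset certificate, step 3. -/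
def step3 : List CosetEntry := [
  ([0, 0, 0, 6], 0, 0, 0),
  ([0, 6, 0, -6], 0, 3, 1),
  ([6, -6, 6, 0], 1, 1, 2),
  ([-6, 0, 6, 0], 2, 0, 3),
  ([6, 0, -6, 0], 2, 2, 3),
  ([-6, 6, -6, 0], 3, 2, 4),
  ([0, -6, 0, 6], 5, 1, 5),
  ([0, 0, 0, -6], 6, 3, 6)]

theorem step3_ok : cosetOK mat 4 [2, 1, 0] [0, 1, 2, 3] step3 = true := by decide +kernel

theorem step3_depth : step3.map (fun e => e.2.2.2) = depthList [1, 1, 1, 2, 1, 1, 1] := by decide +kernel

theorem lenPoly_mul {F : Type*} [Field F] (hS : Rules chevD4 F) {len : ℕ → ℕ}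
    (hR : RootTable chevD4 len) (q : ℤ) :
    lenPoly hR (List.range chevD4.rank) q * (q - 1) ^ 4 = (q ^ 2 - 1) * (q ^ 4 - 1) * (q ^ 4 - 1) * (q ^ 6 - 1) := by
  have h0 : lenPoly hR [] q * (q - 1) ^ 0 = 1 := by rw [hR.lenPoly_nil, pow_zero, mul_one]
  have h1 : lenPoly hR [0] q * (q - 1) ^ 1 = (q ^ 2 - 1) :=
    lenPoly_step_prod hS hR mat_eq [] [0] step0 [1, 1] step0_ok step0_depth h0
      (by simp only [coeffEval, List.zipIdx_cons, List.zipIdx_nil, List.map_cons, List.map_nil, List.sum_cons,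
        List.sum_nil]; push_cast; ring)
  have h2 : lenPoly hR [1, 0] q * (q - 1) ^ 2 = (q ^ 2 - 1) * (q ^ 3 - 1) :=
    lenPoly_step_prod hS hR mat_eq [0] [1, 0] step1 [1, 1, 1] step1_ok step1_depth h1
      (by simp only [coeffEval, List.zipIdx_cons, List.zipIdx_nil, List.map_cons, List.map_nil, List.sum_cons,
        List.sum_nil]; push_cast; ring)
  have h3 : lenPoly hR [2, 1, 0] q * (q - 1) ^ 3 = (q ^ 2 - 1) * (q ^ 3 - 1) * (q ^ 4 - 1) :=
    lenPoly_step_prod hS hR mat_eq [1, 0] [2, 1, 0] step2 [1, 1, 1, 1] step2_ok step2_depth h2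
      (by simp only [coeffEval, List.zipIdx_cons, List.zipIdx_nil, List.map_cons, List.map_nil, List.sum_cons,
        List.sum_nil]; push_cast; ring)
  have h4 : lenPoly hR [0, 1, 2, 3] q * (q - 1) ^ 4 = (q ^ 2 - 1) * (q ^ 4 - 1) * (q ^ 4 - 1) * (q ^ 6 - 1) :=
    lenPoly_step_prod hS hR mat_eq [2, 1, 0] [0, 1, 2, 3] step3 [1, 1, 1, 2, 1, 1, 1] step3_ok step3_depth h3
      (by simp only [coeffEval, List.zipIdx_cons, List.zipIdx_nil, List.map_cons, List.map_nil, List.sum_cons,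
        List.sum_nil]; push_cast; ring)
  exact h4

end Cfsg.Agent.ChevGrp.WeylD4
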