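import Cfsg.Agent.ChevGrp.Weyl.Tools
import Cfsg.Prelude.Def_ChevE6

/-! Certified length polynomial of the Weyl group of type E6 (owner: helper32). -/

set_option linter.unusedSimpArgs false
set_option maxHeartbeats 4000000

namespace Cfsg.Agent.ChevGrp.WeylE6

open Cfsg.Lie

/-- The Cartan matrix. -/
def mat : List (List ℤ) := [[2, 0, -1, 0, 0, 0], [0, 2, 0, -1, 0, 0], [-1, 0, 2, -1, 0, 0], [0, -1, -1, 2, -1, 0], [0, 0, 0, -1, 2, -1], [0, 0, 0, 0, -1, 2]]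

theorem mat_eq : mat = cartanList chevE6 := by decide +kernel

/-- Coset certificate, step 0. -/
def step0 : List CosetEntry := [
  ([6, 6, 6, 6, 6, 6], 0, 0, 0),
  ([6, 12, 12, -6, 12, 6], 0, 3, 1)]

theorem step0_ok : cosetOK mat 6 [] [3] step0 = true := by decide +kernel

theorem step0_depth : step0.map (fun e => e.2.2.2) = depthList [1, 1] := by decide +kernel

/-- Coset certificate, step 1. -/
def step1 : List CosetEntry := [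
  ([6, 6, 6, 0, 6, 6], 0, 0, 0),
  ([12, 6, -6, 6, 6, 6], 0, 2, 1),
  ([12, 12, 0, -6, 12, 6], 1, 3, 2)]

theorem step1_ok : cosetOK mat 6 [3] [2, 3] step1 = true := by decide +kernel

theorem step1_depth : step1.map (fun e => e.2.2.2) = depthList [1, 1, 1] := by decide +kernel

/-- Coset certificate, step 2. -/
def step2 : List CosetEntry := [
  ([6, 6, 0, 0, 6, 6], 0, 0, 0),
  ([6, 6, 0, 6, -6, 12], 0, 4, 1),
  ([6, 12, 6, -6, 0, 12], 1, 3, 2),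
  ([12, 12, -6, 0, 0, 12], 2, 2, 3)]

theorem step2_ok : cosetOK mat 6 [2, 3] [4, 2, 3] step2 = true := by decide +kernel

theorem step2_depth : step2.map (fun e => e.2.2.2) = depthList [1, 1, 1, 1] := by decide +kernel

/-- Coset certificate, step 3. -/
def step3 : List CosetEntry := [
  ([6, 6, 0, 0, 0, 6], 0, 0, 0),
  ([6, -6, 0, 6, 0, 6], 0, 1, 1),
  ([6, 0, 6, -6, 6, 6], 1, 3, 2),
  ([12, 0, -6, 0, 6, 6], 2, 2, 3),
  ([6, 0, 6, 0, -6, 12], 2, 4, 3),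
  ([12, 0, -6, 6, -6, 12], 3, 4, 4),
  ([12, 6, 0, -6, 0, 12], 5, 3, 5),
  ([12, -6, 0, 0, 0, 12], 6, 1, 6)]

theorem step3_ok : cosetOK mat 6 [4, 2, 3] [1, 4, 2, 3] step3 = true := by decide +kernel

theorem step3_depth : step3.map (fun e => e.2.2.2) = depthList [1, 1, 1, 2, 1, 1, 1] := by decide +kernel

/-- Coset certificate, step 4. -/
def step4 : List CosetEntry := [
  ([6, 0, 0, 0, 0, 6], 0, 0, 0),
  ([6, 0, 0, 0, 6, -6], 0, 5, 1),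
  ([6, 0, 0, 6, -6, 0], 1, 4, 2),
  ([6, 6, 6, -6, 0, 0], 2, 3, 3),
  ([6, -6, 6, 0, 0, 0], 3, 1, 4),
  ([12, 6, -6, 0, 0, 0], 3, 2, 4),
  ([12, -6, -6, 6, 0, 0], 4, 2, 5),
  ([12, 0, 0, -6, 6, 0], 6, 3, 6),
  ([12, 0, 0, 0, -6, 6], 7, 4, 7),
  ([12, 0, 0, 0, 0, -6], 8, 5, 8)]

theorem step4_ok : cosetOK mat 6 [1, 4, 2, 3] [5, 1, 4, 2, 3] step4 = true := by decide +kernel

theorem step4_depth : step4.map (fun e => e.2.2.2) = depthList [1, 1, 1, 1, 2, 1, 1, 1, 1] := by decide +kernel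

/-- Coset certificate, step 5. -/
def step5 : List CosetEntry := [
  ([6, 0, 0, 0, 0, 0], 0, 0, 0),
  ([-6, 0, 6, 0, 0, 0], 0, 0, 1),
  ([0, 0, -6, 6, 0, 0], 1, 2, 2),
  ([0, 6, 0, -6, 6, 0], 2, 3, 3),
  ([0, -6, 0, 0, 6, 0], 3, 1, 4),
  ([0, 6, 0, 0, -6, 6], 3, 4, 4),
  ([0, -6, 0, 6, -6, 6], 4, 4, 5),
  ([0, 6, 0, 0, 0, -6], 5, 5, 5),
  ([0, 0, 6, -6, 0, 6], 6, 3, 6),
  ([0, -6, 0, 6, 0, -6], 6, 5, 6),
  ([6, 0, -6, 0, 0, 6], 8, 2, 7),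
  ([0, 0, 6, -6, 6, -6], 8, 5, 7),
  ([-6, 0, 0, 0, 0, 6], 10, 0, 8),
  ([6, 0, -6, 0, 6, -6], 10, 5, 8),
  ([0, 0, 6, 0, -6, 0], 11, 4, 8),
  ([-6, 0, 0, 0, 6, -6], 12, 5, 9),
  ([6, 0, -6, 6, -6, 0], 13, 4, 9),
  ([-6, 0, 0, 6, -6, 0], 15, 4, 10),
  ([6, 6, 0, -6, 0, 0], 16, 3, 10),
  ([-6, 6, 6, -6, 0, 0], 17, 3, 11),
  ([6, -6, 0, 0, 0, 0], 18, 1, 11),
  ([-6, -6, 6, 0, 0, 0], 19, 1, 12),
  ([0, 6, -6, 0, 0, 0], 19, 2, 12),
  ([0, -6, -6, 6, 0, 0], 21, 2, 13),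
  ([0, 0, 0, -6, 6, 0], 23, 3, 14),
  ([0, 0, 0, 0, -6, 6], 24, 4, 15),
  ([0, 0, 0, 0, 0, -6], 25, 5, 16)]

theorem step5_ok : cosetOK mat 6 [5, 1, 4, 2, 3] [0, 1, 2, 3, 4, 5] step5 = true := by decide +kernel

theorem step5_depth : step5.map (fun e => e.2.2.2) = depthList [1, 1, 1, 1, 2, 2, 2, 2, 3, 2, 2, 2, 2, 1, 1, 1, 1] := by decide +kernel

theorem lenPoly_mul {F : Type*} [Field F] (hS : Rules chevE6 F) {len : ℕ → ℕ}
    (hR : RootTable chevE6 len) (q : ℤ) :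
    lenPoly hR (List.range chevE6.rank) q * (q - 1) ^ 6 = (q ^ 2 - 1) * (q ^ 5 - 1) * (q ^ 6 - 1) * (q ^ 8 - 1) * (q ^ 9 - 1) * (q ^ 12 - 1) := by
  have h0 : lenPoly hR [] q * (q - 1) ^ 0 = 1 := by rw [hR.lenPoly_nil, pow_zero, mul_one]
  have h1 : lenPoly hR [3] q * (q - 1) ^ 1 = (q ^ 2 - 1) :=
    lenPoly_step_prod hS hR mat_eq [] [3] step0 [1, 1] step0_ok step0_depth h0
      (by simp only [coeffEval, List.zipIdx_cons, List.zipIdx_nil, List.map_cons, List.map_nil, List.sum_cons,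
        List.sum_nil]; push_cast; ring)
  have h2 : lenPoly hR [2, 3] q * (q - 1) ^ 2 = (q ^ 2 - 1) * (q ^ 3 - 1) :=
    lenPoly_step_prod hS hR mat_eq [3] [2, 3] step1 [1, 1, 1] step1_ok step1_depth h1
      (by simp only [coeffEval, List.zipIdx_cons, List.zipIdx_nil, List.map_cons, List.map_nil, List.sum_cons,
        List.sum_nil]; push_cast; ring)
  have h3 : lenPoly hR [4, 2, 3] q * (q - 1) ^ 3 = (q ^ 2 - 1) * (q ^ 3 - 1) * (q ^ 4 - 1) :=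
    lenPoly_step_prod hS hR mat_eq [2, 3] [4, 2, 3] step2 [1, 1, 1, 1] step2_ok step2_depth h2
      (by simp only [coeffEval, List.zipIdx_cons, List.zipIdx_nil, List.map_cons, List.map_nil, List.sum_cons,
        List.sum_nil]; push_cast; ring)
  have h4 : lenPoly hR [1, 4, 2, 3] q * (q - 1) ^ 4 = (q ^ 2 - 1) * (q ^ 4 - 1) * (q ^ 4 - 1) * (q ^ 6 - 1) :=
    lenPoly_step_prod hS hR mat_eq [4, 2, 3] [1, 4, 2, 3] step3 [1, 1, 1, 2, 1, 1, 1] step3_ok step3_depth h3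
      (by simp only [coeffEval, List.zipIdx_cons, List.zipIdx_nil, List.map_cons, List.map_nil, List.sum_cons,
        List.sum_nil]; push_cast; ring)
  have h5 : lenPoly hR [5, 1, 4, 2, 3] q * (q - 1) ^ 5 = (q ^ 2 - 1) * (q ^ 4 - 1) * (q ^ 5 - 1) * (q ^ 6 - 1) * (q ^ 8 - 1) :=
    lenPoly_step_prod hS hR mat_eq [1, 4, 2, 3] [5, 1, 4, 2, 3] step4 [1, 1, 1, 1, 2, 1, 1, 1, 1] step4_ok step4_depth h4
      (by simp only [coeffEval, List.zipIdx_cons, List.zipIdx_nil, List.map_cons, List.map_nil, List.sum_cons,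
        List.sum_nil]; push_cast; ring)
  have h6 : lenPoly hR [0, 1, 2, 3, 4, 5] q * (q - 1) ^ 6 = (q ^ 2 - 1) * (q ^ 5 - 1) * (q ^ 6 - 1) * (q ^ 8 - 1) * (q ^ 9 - 1) * (q ^ 12 - 1) :=
    lenPoly_step_prod hS hR mat_eq [5, 1, 4, 2, 3] [0, 1, 2, 3, 4, 5] step5 [1, 1, 1, 1, 2, 2, 2, 2, 3, 2, 2, 2, 2, 1, 1, 1, 1] step5_ok step5_depth h5
      (by simp only [coeffEval, List.zipIdx_cons, List.zipIdx_nil, List.map_cons, List.map_nil, List.sum_cons,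
        List.sum_nil]; push_cast; ring)
  exact h6

end Cfsg.Agent.ChevGrp.WeylE6
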