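import Cfsg.Agent.ChevGrp.Weyl.Tools
import Cfsg.Prelude.Def_ChevE8

/-! Certified length polynomial of the Weyl group of type E8 (owner: helper32). -/

set_option linter.unusedSimpArgs false
set_option maxHeartbeats 4000000

namespace Cfsg.Agent.ChevGrp.WeylE8

open Cfsg.Lie

/-- The Cartan matrix. -/
def mat : List (List ℤ) := [[2, 0, -1, 0, 0, 0, 0, 0], [0, 2, 0, -1, 0, 0, 0, 0], [-1, 0, 2, -1, 0, 0, 0, 0], [0, -1, -1, 2, -1, 0, 0, 0], [0, 0, 0, -1, 2, -1, 0, 0], [0, 0, 0, 0, -1, 2, -1, 0], [0, 0, 0, 0, 0, -1, 2, -1], [0, 0, 0, 0, 0, 0, -1, 2]]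

theorem mat_eq : mat = cartanList chevE8 := by decide +kernel

/-- Coset certificate, step 0. -/
def step0 : List CosetEntry := [
  ([6, 6, 6, 6, 6, 6, 6, 6], 0, 0, 0),
  ([6, 12, 12, -6, 12, 6, 6, 6], 0, 3, 1)]

theorem step0_ok : cosetOK mat 8 [] [3] step0 = true := by decide +kernel

theorem step0_depth : step0.map (fun e => e.2.2.2) = depthList [1, 1] := by decide +kernel

/-- Coset certificate, step 1. -/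
def step1 : List CosetEntry := [
  ([6, 6, 6, 0, 6, 6, 6, 6], 0, 0, 0),
  ([12, 6, -6, 6, 6, 6, 6, 6], 0, 2, 1),
  ([12, 12, 0, -6, 12, 6, 6, 6], 1, 3, 2)]

theorem step1_ok : cosetOK mat 8 [3] [2, 3] step1 = true := by decide +kernel

theorem step1_depth : step1.map (fun e => e.2.2.2) = depthList [1, 1, 1] := by decide +kernel

/-- Coset certificate, step 2. -/
def step2 : List CosetEntry := [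
  ([6, 6, 0, 0, 6, 6, 6, 6], 0, 0, 0),
  ([6, 6, 0, 6, -6, 12, 6, 6], 0, 4, 1),
  ([6, 12, 6, -6, 0, 12, 6, 6], 1, 3, 2),
  ([12, 12, -6, 0, 0, 12, 6, 6], 2, 2, 3)]

theorem step2_ok : cosetOK mat 8 [2, 3] [4, 2, 3] step2 = true := by decide +kernel

theorem step2_depth : step2.map (fun e => e.2.2.2) = depthList [1, 1, 1, 1] := by decide +kernel

/-- Coset certificate, step 3. -/
def step3 : List CosetEntry := [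
  ([6, 6, 0, 0, 0, 6, 6, 6], 0, 0, 0),
  ([6, -6, 0, 6, 0, 6, 6, 6], 0, 1, 1),
  ([6, 0, 6, -6, 6, 6, 6, 6], 1, 3, 2),
  ([12, 0, -6, 0, 6, 6, 6, 6], 2, 2, 3),
  ([6, 0, 6, 0, -6, 12, 6, 6], 2, 4, 3),
  ([12, 0, -6, 6, -6, 12, 6, 6], 3, 4, 4),
  ([12, 6, 0, -6, 0, 12, 6, 6], 5, 3, 5),
  ([12, -6, 0, 0, 0, 12, 6, 6], 6, 1, 6)]

theorem step3_ok : cosetOK mat 8 [4, 2, 3] [1, 4, 2, 3] step3 = true := by decide +kernel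

theorem step3_depth : step3.map (fun e => e.2.2.2) = depthList [1, 1, 1, 2, 1, 1, 1] := by decide +kernel

/-- Coset certificate, step 4. -/
def step4 : List CosetEntry := [
  ([6, 0, 0, 0, 0, 6, 6, 6], 0, 0, 0),
  ([6, 0, 0, 0, 6, -6, 12, 6], 0, 5, 1),
  ([6, 0, 0, 6, -6, 0, 12, 6], 1, 4, 2),
  ([6, 6, 6, -6, 0, 0, 12, 6], 2, 3, 3),
  ([6, -6, 6, 0, 0, 0, 12, 6], 3, 1, 4),
  ([12, 6, -6, 0, 0, 0, 12, 6], 3, 2, 4),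
  ([12, -6, -6, 6, 0, 0, 12, 6], 4, 2, 5),
  ([12, 0, 0, -6, 6, 0, 12, 6], 6, 3, 6),
  ([12, 0, 0, 0, -6, 6, 12, 6], 7, 4, 7),
  ([12, 0, 0, 0, 0, -6, 18, 6], 8, 5, 8)]

theorem step4_ok : cosetOK mat 8 [1, 4, 2, 3] [5, 1, 4, 2, 3] step4 = true := by decide +kernel

theorem step4_depth : step4.map (fun e => e.2.2.2) = depthList [1, 1, 1, 1, 2, 1, 1, 1, 1] := by decide +kernel

/-- Coset certificate, step 5. -/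
def step5 : List CosetEntry := [
  ([6, 0, 0, 0, 0, 0, 6, 6], 0, 0, 0),
  ([-6, 0, 6, 0, 0, 0, 6, 6], 0, 0, 1),
  ([0, 0, -6, 6, 0, 0, 6, 6], 1, 2, 2),
  ([0, 6, 0, -6, 6, 0, 6, 6], 2, 3, 3),
  ([0, -6, 0, 0, 6, 0, 6, 6], 3, 1, 4),
  ([0, 6, 0, 0, -6, 6, 6, 6], 3, 4, 4),
  ([0, -6, 0, 6, -6, 6, 6, 6], 4, 4, 5),
  ([0, 6, 0, 0, 0, -6, 12, 6], 5, 5, 5),
  ([0, 0, 6, -6, 0, 6, 6, 6], 6, 3, 6),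
  ([0, -6, 0, 6, 0, -6, 12, 6], 6, 5, 6),
  ([6, 0, -6, 0, 0, 6, 6, 6], 8, 2, 7),
  ([0, 0, 6, -6, 6, -6, 12, 6], 8, 5, 7),
  ([-6, 0, 0, 0, 0, 6, 6, 6], 10, 0, 8),
  ([6, 0, -6, 0, 6, -6, 12, 6], 10, 5, 8),
  ([0, 0, 6, 0, -6, 0, 12, 6], 11, 4, 8),
  ([-6, 0, 0, 0, 6, -6, 12, 6], 12, 5, 9),
  ([6, 0, -6, 6, -6, 0, 12, 6], 13, 4, 9),
  ([-6, 0, 0, 6, -6, 0, 12, 6], 15, 4, 10),
  ([6, 6, 0, -6, 0, 0, 12, 6], 16, 3, 10),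
  ([-6, 6, 6, -6, 0, 0, 12, 6], 17, 3, 11),
  ([6, -6, 0, 0, 0, 0, 12, 6], 18, 1, 11),
  ([-6, -6, 6, 0, 0, 0, 12, 6], 19, 1, 12),
  ([0, 6, -6, 0, 0, 0, 12, 6], 19, 2, 12),
  ([0, -6, -6, 6, 0, 0, 12, 6], 21, 2, 13),
  ([0, 0, 0, -6, 6, 0, 12, 6], 23, 3, 14),
  ([0, 0, 0, 0, -6, 6, 12, 6], 24, 4, 15),
  ([0, 0, 0, 0, 0, -6, 18, 6], 25, 5, 16)]

theorem step5_ok : cosetOK mat 8 [5, 1, 4, 2, 3] [0, 5, 1, 4, 2, 3] step5 = true := by decide +kernel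

theorem step5_depth : step5.map (fun e => e.2.2.2) = depthList [1, 1, 1, 1, 2, 2, 2, 2, 3, 2, 2, 2, 2, 1, 1, 1, 1] := by decide +kernel

/-- Part 0 of step 6. -/
def step6Part0 : List CosetEntry := [
  ([0, 0, 0, 0, 0, 0, 6, 6], 0, 0, 0),
  ([0, 0, 0, 0, 0, 6, -6, 12], 0, 6, 1),
  ([0, 0, 0, 0, 6, -6, 0, 12], 1, 5, 2),
  ([0, 0, 0, 6, -6, 0, 0, 12], 2, 4, 3),
  ([0, 6, 6, -6, 0, 0, 0, 12], 3, 3, 4),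
  ([0, -6, 6, 0, 0, 0, 0, 12], 4, 1, 5),
  ([6, 6, -6, 0, 0, 0, 0, 12], 4, 2, 5),
  ([6, -6, -6, 6, 0, 0, 0, 12], 5, 2, 6),
  ([-6, 6, 0, 0, 0, 0, 0, 12], 6, 0, 6),
  ([-6, -6, 0, 6, 0, 0, 0, 12], 7, 0, 7),
  ([6, 0, 0, -6, 6, 0, 0, 12], 7, 3, 7),
  ([-6, 0, 6, -6, 6, 0, 0, 12], 9, 3, 8),
  ([6, 0, 0, 0, -6, 6, 0, 12], 10, 4, 8),
  ([0, 0, -6, 0, 6, 0, 0, 12], 11, 2, 9),
  ([-6, 0, 6, 0, -6, 6, 0, 12], 11, 4, 9),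
  ([6, 0, 0, 0, 0, -6, 6, 12], 12, 5, 9),
  ([0, 0, -6, 6, -6, 6, 0, 12], 13, 4, 10),
  ([-6, 0, 6, 0, 0, -6, 6, 12], 14, 5, 10),
  ([6, 0, 0, 0, 0, 0, -6, 18], 15, 6, 10),
  ([0, 6, 0, -6, 0, 6, 0, 12], 16, 3, 11),
  ([0, 0, -6, 6, 0, -6, 6, 12], 16, 5, 11),
  ([-6, 0, 6, 0, 0, 0, -6, 18], 17, 6, 11),
  ([0, -6, 0, 0, 0, 6, 0, 12], 19, 1, 12),
  ([0, 6, 0, -6, 6, -6, 6, 12], 19, 5, 12),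
  ([0, 0, -6, 6, 0, 0, -6, 18], 20, 6, 12),
  ([0, -6, 0, 0, 6, -6, 6, 12], 22, 5, 13),
  ([0, 6, 0, 0, -6, 0, 6, 12], 23, 4, 13),
  ([0, 6, 0, -6, 6, 0, -6, 18], 23, 6, 13),
  ([0, -6, 0, 6, -6, 0, 6, 12], 25, 4, 14),
  ([0, -6, 0, 0, 6, 0, -6, 18], 25, 6, 14)]

/-- Part 1 of step 6. -/
def step6Part1 : List CosetEntry := [
  ([0, 6, 0, 0, -6, 6, -6, 18], 26, 6, 14),
  ([0, 0, 6, -6, 0, 0, 6, 12], 28, 3, 15),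
  ([0, -6, 0, 6, -6, 6, -6, 18], 28, 6, 15),
  ([0, 6, 0, 0, 0, -6, 0, 18], 30, 5, 15),
  ([6, 0, -6, 0, 0, 0, 6, 12], 31, 2, 16),
  ([0, 0, 6, -6, 0, 6, -6, 18], 31, 6, 16),
  ([0, -6, 0, 6, 0, -6, 0, 18], 32, 5, 16),
  ([-6, 0, 0, 0, 0, 0, 6, 12], 34, 0, 17),
  ([6, 0, -6, 0, 0, 6, -6, 18], 34, 6, 17),
  ([0, 0, 6, -6, 6, -6, 0, 18], 35, 5, 17),
  ([-6, 0, 0, 0, 0, 6, -6, 18], 37, 6, 18),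
  ([6, 0, -6, 0, 6, -6, 0, 18], 38, 5, 18),
  ([0, 0, 6, 0, -6, 0, 0, 18], 39, 4, 18),
  ([-6, 0, 0, 0, 6, -6, 0, 18], 40, 5, 19),
  ([6, 0, -6, 6, -6, 0, 0, 18], 41, 4, 19),
  ([-6, 0, 0, 6, -6, 0, 0, 18], 43, 4, 20),
  ([6, 6, 0, -6, 0, 0, 0, 18], 44, 3, 20),
  ([-6, 6, 6, -6, 0, 0, 0, 18], 45, 3, 21),
  ([6, -6, 0, 0, 0, 0, 0, 18], 46, 1, 21),
  ([-6, -6, 6, 0, 0, 0, 0, 18], 47, 1, 22),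
  ([0, 6, -6, 0, 0, 0, 0, 18], 47, 2, 22),
  ([0, -6, -6, 6, 0, 0, 0, 18], 49, 2, 23),
  ([0, 0, 0, -6, 6, 0, 0, 18], 51, 3, 24),
  ([0, 0, 0, 0, -6, 6, 0, 18], 52, 4, 25),
  ([0, 0, 0, 0, 0, -6, 6, 18], 53, 5, 26),
  ([0, 0, 0, 0, 0, 0, -6, 24], 54, 6, 27)]

/-- Coset certificate, step 6. -/
def step6 : List CosetEntry := step6Part0 ++ step6Part1

theorem step6_ok : cosetOK mat 8 [0, 5, 1, 4, 2, 3] [6, 0, 5, 1, 4, 2, 3] step6 = true := by decide +kernel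

theorem step6_depth : step6.map (fun e => e.2.2.2) = depthList [1, 1, 1, 1, 1, 2, 2, 2, 2, 3, 3, 3, 3, 3, 3, 3, 3, 3, 3, 2, 2, 2, 2, 1, 1, 1, 1, 1] := by decide +kernel

/-- Part 0 of step 7. -/
def step7Part0 : List CosetEntry := [
  ([0, 0, 0, 0, 0, 0, 0, 6], 0, 0, 0),
  ([0, 0, 0, 0, 0, 0, 6, -6], 0, 7, 1),
  ([0, 0, 0, 0, 0, 6, -6, 0], 1, 6, 2),
  ([0, 0, 0, 0, 6, -6, 0, 0], 2, 5, 3),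
  ([0, 0, 0, 6, -6, 0, 0, 0], 3, 4, 4),
  ([0, 6, 6, -6, 0, 0, 0, 0], 4, 3, 5),
  ([0, -6, 6, 0, 0, 0, 0, 0], 5, 1, 6),
  ([6, 6, -6, 0, 0, 0, 0, 0], 5, 2, 6),
  ([6, -6, -6, 6, 0, 0, 0, 0], 6, 2, 7),
  ([-6, 6, 0, 0, 0, 0, 0, 0], 7, 0, 7),
  ([-6, -6, 0, 6, 0, 0, 0, 0], 8, 0, 8),
  ([6, 0, 0, -6, 6, 0, 0, 0], 8, 3, 8),
  ([-6, 0, 6, -6, 6, 0, 0, 0], 10, 3, 9),
  ([6, 0, 0, 0, -6, 6, 0, 0], 11, 4, 9),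
  ([0, 0, -6, 0, 6, 0, 0, 0], 12, 2, 10),
  ([-6, 0, 6, 0, -6, 6, 0, 0], 12, 4, 10),
  ([6, 0, 0, 0, 0, -6, 6, 0], 13, 5, 10),
  ([0, 0, -6, 6, -6, 6, 0, 0], 14, 4, 11),
  ([-6, 0, 6, 0, 0, -6, 6, 0], 15, 5, 11),
  ([6, 0, 0, 0, 0, 0, -6, 6], 16, 6, 11),
  ([0, 6, 0, -6, 0, 6, 0, 0], 17, 3, 12),
  ([0, 0, -6, 6, 0, -6, 6, 0], 17, 5, 12),
  ([-6, 0, 6, 0, 0, 0, -6, 6], 18, 6, 12),
  ([6, 0, 0, 0, 0, 0, 0, -6], 19, 7, 12),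
  ([0, -6, 0, 0, 0, 6, 0, 0], 20, 1, 13),
  ([0, 6, 0, -6, 6, -6, 6, 0], 20, 5, 13),
  ([0, 0, -6, 6, 0, 0, -6, 6], 21, 6, 13),
  ([-6, 0, 6, 0, 0, 0, 0, -6], 22, 7, 13),
  ([0, -6, 0, 0, 6, -6, 6, 0], 24, 5, 14),
  ([0, 6, 0, 0, -6, 0, 6, 0], 25, 4, 14)]

/-- Part 1 of step 7. -/
def step7Part1 : List CosetEntry := [
  ([0, 6, 0, -6, 6, 0, -6, 6], 25, 6, 14),
  ([0, 0, -6, 6, 0, 0, 0, -6], 26, 7, 14),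
  ([0, -6, 0, 6, -6, 0, 6, 0], 28, 4, 15),
  ([0, -6, 0, 0, 6, 0, -6, 6], 28, 6, 15),
  ([0, 6, 0, 0, -6, 6, -6, 6], 29, 6, 15),
  ([0, 6, 0, -6, 6, 0, 0, -6], 30, 7, 15),
  ([0, 0, 6, -6, 0, 0, 6, 0], 32, 3, 16),
  ([0, -6, 0, 6, -6, 6, -6, 6], 32, 6, 16),
  ([0, -6, 0, 0, 6, 0, 0, -6], 33, 7, 16),
  ([0, 6, 0, 0, 0, -6, 0, 6], 34, 5, 16),
  ([0, 6, 0, 0, -6, 6, 0, -6], 34, 7, 16),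
  ([6, 0, -6, 0, 0, 0, 6, 0], 36, 2, 17),
  ([0, 0, 6, -6, 0, 6, -6, 6], 36, 6, 17),
  ([0, -6, 0, 6, 0, -6, 0, 6], 37, 5, 17),
  ([0, -6, 0, 6, -6, 6, 0, -6], 37, 7, 17),
  ([0, 6, 0, 0, 0, -6, 6, -6], 39, 7, 17),
  ([-6, 0, 0, 0, 0, 0, 6, 0], 41, 0, 18),
  ([6, 0, -6, 0, 0, 6, -6, 6], 41, 6, 18),
  ([0, 0, 6, -6, 6, -6, 0, 6], 42, 5, 18),
  ([0, 0, 6, -6, 0, 6, 0, -6], 42, 7, 18),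
  ([0, -6, 0, 6, 0, -6, 6, -6], 43, 7, 18),
  ([0, 6, 0, 0, 0, 0, -6, 0], 45, 6, 18),
  ([-6, 0, 0, 0, 0, 6, -6, 6], 46, 6, 19),
  ([6, 0, -6, 0, 6, -6, 0, 6], 47, 5, 19),
  ([6, 0, -6, 0, 0, 6, 0, -6], 47, 7, 19),
  ([0, 0, 6, 0, -6, 0, 0, 6], 48, 4, 19),
  ([0, 0, 6, -6, 6, -6, 6, -6], 48, 7, 19),
  ([0, -6, 0, 6, 0, 0, -6, 0], 50, 6, 19),
  ([-6, 0, 0, 0, 6, -6, 0, 6], 52, 5, 20),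
  ([-6, 0, 0, 0, 0, 6, 0, -6], 52, 7, 20)]

/-- Part 2 of step 7. -/
def step7Part2 : List CosetEntry := [
  ([6, 0, -6, 6, -6, 0, 0, 6], 53, 4, 20),
  ([6, 0, -6, 0, 6, -6, 6, -6], 53, 7, 20),
  ([0, 0, 6, 0, -6, 0, 6, -6], 55, 7, 20),
  ([0, 0, 6, -6, 6, 0, -6, 0], 56, 6, 20),
  ([-6, 0, 0, 6, -6, 0, 0, 6], 58, 4, 21),
  ([-6, 0, 0, 0, 6, -6, 6, -6], 58, 7, 21),
  ([6, 6, 0, -6, 0, 0, 0, 6], 60, 3, 21),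
  ([6, 0, -6, 6, -6, 0, 6, -6], 60, 7, 21),
  ([6, 0, -6, 0, 6, 0, -6, 0], 61, 6, 21),
  ([0, 0, 6, 0, -6, 6, -6, 0], 62, 6, 21),
  ([-6, 6, 6, -6, 0, 0, 0, 6], 64, 3, 22),
  ([-6, 0, 0, 6, -6, 0, 6, -6], 64, 7, 22),
  ([-6, 0, 0, 0, 6, 0, -6, 0], 65, 6, 22),
  ([6, -6, 0, 0, 0, 0, 0, 6], 66, 1, 22),
  ([6, 6, 0, -6, 0, 0, 6, -6], 66, 7, 22),
  ([6, 0, -6, 6, -6, 6, -6, 0], 67, 6, 22),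
  ([0, 0, 6, 0, 0, -6, 0, 0], 69, 5, 22),
  ([-6, -6, 6, 0, 0, 0, 0, 6], 70, 1, 23),
  ([0, 6, -6, 0, 0, 0, 0, 6], 70, 2, 23),
  ([-6, 6, 6, -6, 0, 0, 6, -6], 70, 7, 23),
  ([-6, 0, 0, 6, -6, 6, -6, 0], 71, 6, 23),
  ([6, -6, 0, 0, 0, 0, 6, -6], 73, 7, 23),
  ([6, 6, 0, -6, 0, 6, -6, 0], 74, 6, 23),
  ([6, 0, -6, 6, 0, -6, 0, 0], 75, 5, 23),
  ([0, -6, -6, 6, 0, 0, 0, 6], 77, 2, 24),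
  ([-6, -6, 6, 0, 0, 0, 6, -6], 77, 7, 24),
  ([0, 6, -6, 0, 0, 0, 6, -6], 78, 7, 24),
  ([-6, 6, 6, -6, 0, 6, -6, 0], 79, 6, 24),
  ([-6, 0, 0, 6, 0, -6, 0, 0], 80, 5, 24),
  ([6, -6, 0, 0, 0, 6, -6, 0], 81, 6, 24)]

/-- Part 3 of step 7. -/
def step7Part3 : List CosetEntry := [
  ([6, 6, 0, -6, 6, -6, 0, 0], 82, 5, 24),
  ([0, 0, 0, -6, 6, 0, 0, 6], 84, 3, 25),
  ([0, -6, -6, 6, 0, 0, 6, -6], 84, 7, 25),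
  ([-6, -6, 6, 0, 0, 6, -6, 0], 85, 6, 25),
  ([0, 6, -6, 0, 0, 6, -6, 0], 86, 6, 25),
  ([-6, 6, 6, -6, 6, -6, 0, 0], 87, 5, 25),
  ([6, -6, 0, 0, 6, -6, 0, 0], 89, 5, 25),
  ([6, 6, 0, 0, -6, 0, 0, 0], 90, 4, 25),
  ([0, 0, 0, 0, -6, 6, 0, 6], 91, 4, 26),
  ([0, 0, 0, -6, 6, 0, 6, -6], 91, 7, 26),
  ([0, -6, -6, 6, 0, 6, -6, 0], 92, 6, 26),
  ([-6, -6, 6, 0, 6, -6, 0, 0], 93, 5, 26),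
  ([0, 6, -6, 0, 6, -6, 0, 0], 94, 5, 26),
  ([-6, 6, 6, 0, -6, 0, 0, 0], 95, 4, 26),
  ([6, -6, 0, 6, -6, 0, 0, 0], 96, 4, 26),
  ([0, 0, 0, 0, 0, -6, 6, 6], 98, 5, 27),
  ([0, 0, 0, 0, -6, 6, 6, -6], 98, 7, 27),
  ([0, 0, 0, -6, 6, 6, -6, 0], 99, 6, 27),
  ([0, -6, -6, 6, 6, -6, 0, 0], 100, 5, 27),
  ([-6, -6, 6, 6, -6, 0, 0, 0], 101, 4, 27),
  ([0, 6, -6, 6, -6, 0, 0, 0], 102, 4, 27),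
  ([6, 0, 6, -6, 0, 0, 0, 0], 104, 3, 27),
  ([0, 0, 0, 0, 0, 0, -6, 12], 105, 6, 28),
  ([0, 0, 0, 0, 0, -6, 12, -6], 105, 7, 28),
  ([0, 0, 0, 0, -6, 12, -6, 0], 106, 6, 28),
  ([0, 0, 0, -6, 12, -6, 0, 0], 107, 5, 28),
  ([0, -6, -6, 12, -6, 0, 0, 0], 108, 4, 28),
  ([-6, 0, 12, -6, 0, 0, 0, 0], 109, 3, 28),
  ([0, 12, 0, -6, 0, 0, 0, 0], 110, 3, 28),
  ([12, 0, -6, 0, 0, 0, 0, 0], 111, 2, 28)]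

/-- Part 4 of step 7. -/
def step7Part4 : List CosetEntry := [
  ([0, 0, 0, 0, 0, 0, 6, -12], 112, 7, 29),
  ([0, 0, 0, 0, 0, 6, -12, 6], 113, 6, 29),
  ([0, 0, 0, 0, 6, -12, 6, 0], 114, 5, 29),
  ([0, 0, 0, 6, -12, 6, 0, 0], 115, 4, 29),
  ([0, 6, 6, -12, 6, 0, 0, 0], 116, 3, 29),
  ([6, 0, -12, 6, 0, 0, 0, 0], 117, 2, 29),
  ([0, -12, 0, 6, 0, 0, 0, 0], 118, 1, 29),
  ([-12, 0, 6, 0, 0, 0, 0, 0], 119, 0, 29),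
  ([0, 0, 0, 0, 0, 6, -6, -6], 120, 6, 30),
  ([0, 0, 0, 0, 6, -6, -6, 6], 121, 5, 30),
  ([0, 0, 0, 6, -6, -6, 6, 0], 122, 4, 30),
  ([0, 6, 6, -6, -6, 6, 0, 0], 123, 3, 30),
  ([0, -6, 6, -6, 6, 0, 0, 0], 124, 1, 30),
  ([6, 6, -6, -6, 6, 0, 0, 0], 124, 2, 30),
  ([-6, 0, -6, 6, 0, 0, 0, 0], 125, 0, 30),
  ([0, 0, 0, 0, 6, -6, 0, -6], 128, 5, 31),
  ([0, 0, 0, 6, -6, 0, -6, 6], 129, 4, 31),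
  ([0, 6, 6, -6, 0, -6, 6, 0], 130, 3, 31),
  ([0, -6, 6, 0, -6, 6, 0, 0], 131, 1, 31),
  ([6, 6, -6, 0, -6, 6, 0, 0], 131, 2, 31),
  ([6, -6, -6, 0, 6, 0, 0, 0], 132, 2, 31),
  ([-6, 6, 0, -6, 6, 0, 0, 0], 133, 0, 31),
  ([0, 0, 0, 6, -6, 0, 0, -6], 135, 4, 32),
  ([0, 6, 6, -6, 0, 0, -6, 6], 136, 3, 32),
  ([0, -6, 6, 0, 0, -6, 6, 0], 137, 1, 32),
  ([6, 6, -6, 0, 0, -6, 6, 0], 137, 2, 32),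
  ([6, -6, -6, 6, -6, 6, 0, 0], 138, 2, 32),
  ([-6, 6, 0, 0, -6, 6, 0, 0], 139, 0, 32),
  ([-6, -6, 0, 0, 6, 0, 0, 0], 140, 0, 32),
  ([0, 6, 6, -6, 0, 0, 0, -6], 142, 3, 33)]

/-- Part 5 of step 7. -/
def step7Part5 : List CosetEntry := [
  ([0, -6, 6, 0, 0, 0, -6, 6], 143, 1, 33),
  ([6, 6, -6, 0, 0, 0, -6, 6], 143, 2, 33),
  ([6, -6, -6, 6, 0, -6, 6, 0], 144, 2, 33),
  ([-6, 6, 0, 0, 0, -6, 6, 0], 145, 0, 33),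
  ([-6, -6, 0, 6, -6, 6, 0, 0], 146, 0, 33),
  ([6, 0, 0, -6, 0, 6, 0, 0], 146, 3, 33),
  ([0, -6, 6, 0, 0, 0, 0, -6], 149, 1, 34),
  ([6, 6, -6, 0, 0, 0, 0, -6], 149, 2, 34),
  ([6, -6, -6, 6, 0, 0, -6, 6], 150, 2, 34),
  ([-6, 6, 0, 0, 0, 0, -6, 6], 151, 0, 34),
  ([-6, -6, 0, 6, 0, -6, 6, 0], 152, 0, 34),
  ([6, 0, 0, -6, 6, -6, 6, 0], 152, 3, 34),
  ([-6, 0, 6, -6, 0, 6, 0, 0], 154, 3, 34),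
  ([6, -6, -6, 6, 0, 0, 0, -6], 156, 2, 35),
  ([-6, 6, 0, 0, 0, 0, 0, -6], 157, 0, 35),
  ([-6, -6, 0, 6, 0, 0, -6, 6], 158, 0, 35),
  ([6, 0, 0, -6, 6, 0, -6, 6], 158, 3, 35),
  ([-6, 0, 6, -6, 6, -6, 6, 0], 160, 3, 35),
  ([6, 0, 0, 0, -6, 0, 6, 0], 161, 4, 35),
  ([0, 0, -6, 0, 0, 6, 0, 0], 162, 2, 35),
  ([-6, -6, 0, 6, 0, 0, 0, -6], 163, 0, 36),
  ([6, 0, 0, -6, 6, 0, 0, -6], 163, 3, 36),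
  ([-6, 0, 6, -6, 6, 0, -6, 6], 165, 3, 36),
  ([6, 0, 0, 0, -6, 6, -6, 6], 166, 4, 36),
  ([0, 0, -6, 0, 6, -6, 6, 0], 167, 2, 36),
  ([-6, 0, 6, 0, -6, 0, 6, 0], 167, 4, 36),
  ([-6, 0, 6, -6, 6, 0, 0, -6], 170, 3, 37),
  ([6, 0, 0, 0, -6, 6, 0, -6], 171, 4, 37),
  ([0, 0, -6, 0, 6, 0, -6, 6], 172, 2, 37),
  ([-6, 0, 6, 0, -6, 6, -6, 6], 172, 4, 37)]

/-- Part 6 of step 7. -/
def step7Part6 : List CosetEntry := [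
  ([6, 0, 0, 0, 0, -6, 0, 6], 173, 5, 37),
  ([0, 0, -6, 6, -6, 0, 6, 0], 174, 4, 37),
  ([0, 0, -6, 0, 6, 0, 0, -6], 176, 2, 38),
  ([-6, 0, 6, 0, -6, 6, 0, -6], 176, 4, 38),
  ([6, 0, 0, 0, 0, -6, 6, -6], 177, 5, 38),
  ([0, 0, -6, 6, -6, 6, -6, 6], 178, 4, 38),
  ([-6, 0, 6, 0, 0, -6, 0, 6], 179, 5, 38),
  ([0, 6, 0, -6, 0, 0, 6, 0], 181, 3, 38),
  ([0, 0, -6, 6, -6, 6, 0, -6], 182, 4, 39),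
  ([-6, 0, 6, 0, 0, -6, 6, -6], 183, 5, 39),
  ([6, 0, 0, 0, 0, 0, -6, 0], 184, 6, 39),
  ([0, 6, 0, -6, 0, 6, -6, 6], 185, 3, 39),
  ([0, 0, -6, 6, 0, -6, 0, 6], 185, 5, 39),
  ([0, -6, 0, 0, 0, 0, 6, 0], 187, 1, 39),
  ([0, 6, 0, -6, 0, 6, 0, -6], 188, 3, 40),
  ([0, 0, -6, 6, 0, -6, 6, -6], 188, 5, 40),
  ([-6, 0, 6, 0, 0, 0, -6, 0], 189, 6, 40),
  ([0, -6, 0, 0, 0, 6, -6, 6], 191, 1, 40),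
  ([0, 6, 0, -6, 6, -6, 0, 6], 191, 5, 40),
  ([0, -6, 0, 0, 0, 6, 0, -6], 194, 1, 41),
  ([0, 6, 0, -6, 6, -6, 6, -6], 194, 5, 41),
  ([0, 0, -6, 6, 0, 0, -6, 0], 195, 6, 41),
  ([0, -6, 0, 0, 6, -6, 0, 6], 197, 5, 41),
  ([0, 6, 0, 0, -6, 0, 0, 6], 198, 4, 41),
  ([0, -6, 0, 0, 6, -6, 6, -6], 199, 5, 42),
  ([0, 6, 0, 0, -6, 0, 6, -6], 200, 4, 42),
  ([0, 6, 0, -6, 6, 0, -6, 0], 200, 6, 42),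
  ([0, -6, 0, 6, -6, 0, 0, 6], 202, 4, 42),
  ([0, -6, 0, 6, -6, 0, 6, -6], 204, 4, 43),
  ([0, -6, 0, 0, 6, 0, -6, 0], 204, 6, 43)]

/-- Part 7 of step 7. -/
def step7Part7 : List CosetEntry := [
  ([0, 6, 0, 0, -6, 6, -6, 0], 205, 6, 43),
  ([0, 0, 6, -6, 0, 0, 0, 6], 207, 3, 43),
  ([0, 0, 6, -6, 0, 0, 6, -6], 208, 3, 44),
  ([0, -6, 0, 6, -6, 6, -6, 0], 208, 6, 44),
  ([0, 6, 0, 0, 0, -6, 0, 0], 210, 5, 44),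
  ([6, 0, -6, 0, 0, 0, 0, 6], 211, 2, 44),
  ([6, 0, -6, 0, 0, 0, 6, -6], 212, 2, 45),
  ([0, 0, 6, -6, 0, 6, -6, 0], 212, 6, 45),
  ([0, -6, 0, 6, 0, -6, 0, 0], 213, 5, 45),
  ([-6, 0, 0, 0, 0, 0, 0, 6], 215, 0, 45),
  ([-6, 0, 0, 0, 0, 0, 6, -6], 216, 0, 46),
  ([6, 0, -6, 0, 0, 6, -6, 0], 216, 6, 46),
  ([0, 0, 6, -6, 6, -6, 0, 0], 217, 5, 46),
  ([-6, 0, 0, 0, 0, 6, -6, 0], 220, 6, 47),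
  ([6, 0, -6, 0, 6, -6, 0, 0], 221, 5, 47),
  ([0, 0, 6, 0, -6, 0, 0, 0], 222, 4, 47),
  ([-6, 0, 0, 0, 6, -6, 0, 0], 223, 5, 48),
  ([6, 0, -6, 6, -6, 0, 0, 0], 224, 4, 48),
  ([-6, 0, 0, 6, -6, 0, 0, 0], 226, 4, 49),
  ([6, 6, 0, -6, 0, 0, 0, 0], 227, 3, 49),
  ([-6, 6, 6, -6, 0, 0, 0, 0], 228, 3, 50),
  ([6, -6, 0, 0, 0, 0, 0, 0], 229, 1, 50),
  ([-6, -6, 6, 0, 0, 0, 0, 0], 230, 1, 51),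
  ([0, 6, -6, 0, 0, 0, 0, 0], 230, 2, 51),
  ([0, -6, -6, 6, 0, 0, 0, 0], 232, 2, 52),
  ([0, 0, 0, -6, 6, 0, 0, 0], 234, 3, 53),
  ([0, 0, 0, 0, -6, 6, 0, 0], 235, 4, 54),
  ([0, 0, 0, 0, 0, -6, 6, 0], 236, 5, 55),
  ([0, 0, 0, 0, 0, 0, -6, 6], 237, 6, 56),
  ([0, 0, 0, 0, 0, 0, 0, -6], 238, 7, 57)]

/-- Coset certificate, step 7. -/
def step7 : List CosetEntry := step7Part0 ++ step7Part1 ++ step7Part2 ++ step7Part3 ++ step7Part4 ++ step7Part5 ++ step7Part6 ++ step7Part7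

theorem step7_ok : cosetOK mat 8 [6, 0, 5, 1, 4, 2, 3] [0, 1, 2, 3, 4, 5, 6, 7] step7 = true := by decide +kernel

theorem step7_depth : step7.map (fun e => e.2.2.2) = depthList [1, 1, 1, 1, 1, 1, 2, 2, 2, 2, 3, 3, 4, 4, 4, 4, 5, 5, 6, 6, 6, 6, 7, 7, 7, 7, 7, 7, 8, 8, 7, 7, 7, 7, 7, 7, 6, 6, 6, 6, 5, 5, 4, 4, 4, 4, 3, 3, 2, 2, 2, 2, 1, 1, 1, 1, 1, 1] := by decide +kernel

theorem lenPoly_mul {F : Type*} [Field F] (hS : Rules chevE8 F) {len : ℕ → ℕ}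
    (hR : RootTable chevE8 len) (q : ℤ) :
    lenPoly hR (List.range chevE8.rank) q * (q - 1) ^ 8 = (q ^ 2 - 1) * (q ^ 8 - 1) * (q ^ 12 - 1) * (q ^ 14 - 1) * (q ^ 18 - 1) * (q ^ 20 - 1) * (q ^ 24 - 1) * (q ^ 30 - 1) := by
  have h0 : lenPoly hR [] q * (q - 1) ^ 0 = 1 := by rw [hR.lenPoly_nil, pow_zero, mul_one]
  have h1 : lenPoly hR [3] q * (q - 1) ^ 1 = (q ^ 2 - 1) :=
    lenPoly_step_prod hS hR mat_eq [] [3] step0 [1, 1] step0_ok step0_depth h0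
      (by simp only [coeffEval, List.zipIdx_cons, List.zipIdx_nil, List.map_cons, List.map_nil, List.sum_cons,
        List.sum_nil]; push_cast; ring)
  have h2 : lenPoly hR [2, 3] q * (q - 1) ^ 2 = (q ^ 2 - 1) * (q ^ 3 - 1) :=
    lenPoly_step_prod hS hR mat_eq [3] [2, 3] step1 [1, 1, 1] step1_ok step1_depth h1
      (by simp only [coeffEval, List.zipIdx_cons, List.zipIdx_nil, List.map_cons, List.map_nil, List.sum_cons,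
        List.sum_nil]; push_cast; ring)
  have h3 : lenPoly hR [4, 2, 3] q * (q - 1) ^ 3 = (q ^ 2 - 1) * (q ^ 3 - 1) * (q ^ 4 - 1) :=
    lenPoly_step_prod hS hR mat_eq [2, 3] [4, 2, 3] step2 [1, 1, 1, 1] step2_ok step2_depth h2
      (by simp only [coeffEval, List.zipIdx_cons, List.zipIdx_nil, List.map_cons, List.map_nil, List.sum_cons,
        List.sum_nil]; push_cast; ring)
  have h4 : lenPoly hR [1, 4, 2, 3] q * (q - 1) ^ 4 = (q ^ 2 - 1) * (q ^ 4 - 1) * (q ^ 4 - 1) * (q ^ 6 - 1) :=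
    lenPoly_step_prod hS hR mat_eq [4, 2, 3] [1, 4, 2, 3] step3 [1, 1, 1, 2, 1, 1, 1] step3_ok step3_depth h3
      (by simp only [coeffEval, List.zipIdx_cons, List.zipIdx_nil, List.map_cons, List.map_nil, List.sum_cons,
        List.sum_nil]; push_cast; ring)
  have h5 : lenPoly hR [5, 1, 4, 2, 3] q * (q - 1) ^ 5 = (q ^ 2 - 1) * (q ^ 4 - 1) * (q ^ 5 - 1) * (q ^ 6 - 1) * (q ^ 8 - 1) :=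
    lenPoly_step_prod hS hR mat_eq [1, 4, 2, 3] [5, 1, 4, 2, 3] step4 [1, 1, 1, 1, 2, 1, 1, 1, 1] step4_ok step4_depth h4
      (by simp only [coeffEval, List.zipIdx_cons, List.zipIdx_nil, List.map_cons, List.map_nil, List.sum_cons,
        List.sum_nil]; push_cast; ring)
  have h6 : lenPoly hR [0, 5, 1, 4, 2, 3] q * (q - 1) ^ 6 = (q ^ 2 - 1) * (q ^ 5 - 1) * (q ^ 6 - 1) * (q ^ 8 - 1) * (q ^ 9 - 1) * (q ^ 12 - 1) :=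
    lenPoly_step_prod hS hR mat_eq [5, 1, 4, 2, 3] [0, 5, 1, 4, 2, 3] step5 [1, 1, 1, 1, 2, 2, 2, 2, 3, 2, 2, 2, 2, 1, 1, 1, 1] step5_ok step5_depth h5
      (by simp only [coeffEval, List.zipIdx_cons, List.zipIdx_nil, List.map_cons, List.map_nil, List.sum_cons,
        List.sum_nil]; push_cast; ring)
  have h7 : lenPoly hR [6, 0, 5, 1, 4, 2, 3] q * (q - 1) ^ 7 = (q ^ 2 - 1) * (q ^ 6 - 1) * (q ^ 8 - 1) * (q ^ 10 - 1) * (q ^ 12 - 1) * (q ^ 14 - 1) * (q ^ 18 - 1) :=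
    lenPoly_step_prod hS hR mat_eq [0, 5, 1, 4, 2, 3] [6, 0, 5, 1, 4, 2, 3] step6 [1, 1, 1, 1, 1, 2, 2, 2, 2, 3, 3, 3, 3, 3, 3, 3, 3, 3, 3, 2, 2, 2, 2, 1, 1, 1, 1, 1] step6_ok step6_depth h6
      (by simp only [coeffEval, List.zipIdx_cons, List.zipIdx_nil, List.map_cons, List.map_nil, List.sum_cons,
        List.sum_nil]; push_cast; ring)
  have h8 : lenPoly hR [0, 1, 2, 3, 4, 5, 6, 7] q * (q - 1) ^ 8 = (q ^ 2 - 1) * (q ^ 8 - 1) * (q ^ 12 - 1) * (q ^ 14 - 1) * (q ^ 18 - 1) * (q ^ 20 - 1) * (q ^ 24 - 1) * (q ^ 30 - 1) :=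
    lenPoly_step_prod hS hR mat_eq [6, 0, 5, 1, 4, 2, 3] [0, 1, 2, 3, 4, 5, 6, 7] step7 [1, 1, 1, 1, 1, 1, 2, 2, 2, 2, 3, 3, 4, 4, 4, 4, 5, 5, 6, 6, 6, 6, 7, 7, 7, 7, 7, 7, 8, 8, 7, 7, 7, 7, 7, 7, 6, 6, 6, 6, 5, 5, 4, 4, 4, 4, 3, 3, 2, 2, 2, 2, 1, 1, 1, 1, 1, 1] step7_ok step7_depth h7
      (by simp only [coeffEval, List.zipIdx_cons, List.zipIdx_nil, List.map_cons, List.map_nil, List.sum_cons,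
        List.sum_nil]; push_cast; ring)
  exact h8

end Cfsg.Agent.ChevGrp.WeylE8
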