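import Cfsg.Agent.ChevGrp.Weyl.Tools
import Cfsg.Prelude.Def_ChevF4

/-! Certified length polynomial of the Weyl group of type F4 (owner: helper32). -/

set_option linter.unusedSimpArgs false
set_option maxHeartbeats 4000000

namespace Cfsg.Agent.ChevGrp.WeylF4

open Cfsg.Lie

/-- The Cartan matrix. -/
def mat : List (List ℤ) := [[2, -1, 0, 0], [-1, 2, -2, 0], [0, -1, 2, -1], [0, 0, -1, 2]]

theorem mat_eq : mat = cartanList chevF4 := by decide +kernel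

/-- Coset certificate, step 0. -/
def step0 : List CosetEntry := [
  ([6, 6, 6, 6], 0, 0, 0),
  ([12, -6, 18, 6], 0, 1, 1)]

theorem step0_ok : cosetOK mat 4 [] [1] step0 = true := by decide +kernel

theorem step0_depth : step0.map (fun e => e.2.2.2) = depthList [1, 1] := by decide +kernel

/-- Coset certificate, step 1. -/
def step1 : List CosetEntry := [
  ([6, 0, 6, 6], 0, 0, 0),
  ([6, 6, -6, 12], 0, 2, 1),
  ([12, -6, 6, 12], 1, 1, 2),
  ([12, 0, -6, 18], 2, 2, 3)]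

theorem step1_ok : cosetOK mat 4 [1] [2, 1] step1 = true := by decide +kernel

theorem step1_depth : step1.map (fun e => e.2.2.2) = depthList [1, 1, 1, 1] := by decide +kernel

/-- Coset certificate, step 2. -/
def step2 : List CosetEntry := [
  ([6, 0, 0, 6], 0, 0, 0),
  ([-6, 6, 0, 6], 0, 0, 1),
  ([0, -6, 12, 6], 1, 1, 2),
  ([0, 6, -12, 18], 2, 2, 3),
  ([6, -6, 0, 18], 3, 1, 4),
  ([-6, 0, 0, 18], 4, 0, 5)]

theorem step2_ok : cosetOK mat 4 [2, 1] [0, 2, 1] step2 = true := by decide +kernel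

theorem step2_depth : step2.map (fun e => e.2.2.2) = depthList [1, 1, 1, 1, 1, 1] := by decide +kernel

/-- Coset certificate, step 3. -/
def step3 : List CosetEntry := [
  ([0, 0, 0, 6], 0, 0, 0),
  ([0, 0, 6, -6], 0, 3, 1),
  ([0, 6, -6, 0], 1, 2, 2),
  ([6, -6, 6, 0], 2, 1, 3),
  ([-6, 0, 6, 0], 3, 0, 4),
  ([6, 0, -6, 6], 3, 2, 4),
  ([-6, 6, -6, 6], 4, 2, 5),
  ([6, 0, 0, -6], 5, 3, 5),
  ([0, -6, 6, 6], 6, 1, 6),
  ([-6, 6, 0, -6], 6, 3, 6),
  ([0, 0, -6, 12], 8, 2, 7),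
  ([0, -6, 12, -6], 8, 3, 7),
  ([0, 0, 6, -12], 10, 3, 8),
  ([0, 6, -12, 6], 11, 2, 8),
  ([0, 6, -6, -6], 12, 2, 9),
  ([6, -6, 0, 6], 13, 1, 9),
  ([6, -6, 6, -6], 14, 1, 10),
  ([-6, 0, 0, 6], 15, 0, 10),
  ([-6, 0, 6, -6], 16, 0, 11),
  ([6, 0, -6, 0], 16, 2, 11),
  ([-6, 6, -6, 0], 18, 2, 12),
  ([0, -6, 6, 0], 20, 1, 13),
  ([0, 0, -6, 6], 21, 2, 14),
  ([0, 0, 0, -6], 22, 3, 15)]

theorem step3_ok : cosetOK mat 4 [0, 2, 1] [0, 1, 2, 3] step3 = true := by decide +kernel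

theorem step3_depth : step3.map (fun e => e.2.2.2) = depthList [1, 1, 1, 1, 2, 2, 2, 2, 2, 2, 2, 2, 1, 1, 1, 1] := by decide +kernel

theorem lenPoly_mul {F : Type*} [Field F] (hS : Rules chevF4 F) {len : ℕ → ℕ}
    (hR : RootTable chevF4 len) (q : ℤ) :
    lenPoly hR (List.range chevF4.rank) q * (q - 1) ^ 4 = (q ^ 2 - 1) * (q ^ 6 - 1) * (q ^ 8 - 1) * (q ^ 12 - 1) := by
  have h0 : lenPoly hR [] q * (q - 1) ^ 0 = 1 := by rw [hR.lenPoly_nil, pow_zero, mul_one]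
  have h1 : lenPoly hR [1] q * (q - 1) ^ 1 = (q ^ 2 - 1) :=
    lenPoly_step_prod hS hR mat_eq [] [1] step0 [1, 1] step0_ok step0_depth h0
      (by simp only [coeffEval, List.zipIdx_cons, List.zipIdx_nil, List.map_cons, List.map_nil, List.sum_cons,
        List.sum_nil]; push_cast; ring)
  have h2 : lenPoly hR [2, 1] q * (q - 1) ^ 2 = (q ^ 2 - 1) * (q ^ 4 - 1) :=
    lenPoly_step_prod hS hR mat_eq [1] [2, 1] step1 [1, 1, 1, 1] step1_ok step1_depth h1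
      (by simp only [coeffEval, List.zipIdx_cons, List.zipIdx_nil, List.map_cons, List.map_nil, List.sum_cons,
        List.sum_nil]; push_cast; ring)
  have h3 : lenPoly hR [0, 2, 1] q * (q - 1) ^ 3 = (q ^ 2 - 1) * (q ^ 4 - 1) * (q ^ 6 - 1) :=
    lenPoly_step_prod hS hR mat_eq [2, 1] [0, 2, 1] step2 [1, 1, 1, 1, 1, 1] step2_ok step2_depth h2
      (by simp only [coeffEval, List.zipIdx_cons, List.zipIdx_nil, List.map_cons, List.map_nil, List.sum_cons,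
        List.sum_nil]; push_cast; ring)
  have h4 : lenPoly hR [0, 1, 2, 3] q * (q - 1) ^ 4 = (q ^ 2 - 1) * (q ^ 6 - 1) * (q ^ 8 - 1) * (q ^ 12 - 1) :=
    lenPoly_step_prod hS hR mat_eq [0, 2, 1] [0, 1, 2, 3] step3 [1, 1, 1, 1, 2, 2, 2, 2, 2, 2, 2, 2, 1, 1, 1, 1] step3_ok step3_depth h3
      (by simp only [coeffEval, List.zipIdx_cons, List.zipIdx_nil, List.map_cons, List.map_nil, List.sum_cons,
        List.sum_nil]; push_cast; ring)
  exact h4

end Cfsg.Agent.ChevGrp.WeylF4
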